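import Mathlib
import Groth.Agent.TFCurvNormLib.Basic

/-! Interpolating the length of lattices over the conductor. -/

open Module Submodule

namespace Groth.Agent.TFCurvInterpLib

universe u

/-- Length of `L / A`. -/
noncomputable def qlen {O W : Type u} [CommRing O] [AddCommGroup W] [Module O W]
    (A L : Submodule O W) : ℕ∞ :=
  Module.length O (↥L ⧸ Submodule.comap L.subtype A)

section

variable {O W : Type u} [CommRing O] [AddCommGroup W] [Module O W]

theorem qlen_add {A B L : Submodule O W} (hAB : A ≤ B) (hBL : B ≤ L) :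
    qlen A L = qlen A B + qlen B L := by
  have hle : A.comap B.subtype ≤ (A.comap L.subtype).comap (inclusion hBL) := fun x hx => hx
  have hle' : A.comap L.subtype ≤ (B.comap L.subtype).comap LinearMap.id := fun x hx => hAB hx
  refine Module.length_eq_add_of_exact (mapQ _ _ (inclusion hBL) hle) (mapQ _ _ LinearMap.id hle')
    ?_ ?_ ?_
  · rw [← LinearMap.ker_eq_bot, eq_bot_iff]
    intro x hx
    obtain ⟨x, rfl⟩ := Submodule.Quotient.mk_surjective _ x
    rw [LinearMap.mem_ker, mapQ_apply, Submodule.Quotient.mk_eq_zero] at hx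
    rw [mem_bot, Submodule.Quotient.mk_eq_zero]
    exact hx
  · intro x
    obtain ⟨x, rfl⟩ := Submodule.Quotient.mk_surjective _ x
    exact ⟨Submodule.Quotient.mk x, rfl⟩
  · intro x
    obtain ⟨x, rfl⟩ := Submodule.Quotient.mk_surjective _ x
    constructor
    · intro hx
      rw [mapQ_apply, Submodule.Quotient.mk_eq_zero] at hx
      exact ⟨Submodule.Quotient.mk ⟨x.1, hx⟩, rfl⟩
    · rintro ⟨y, hy⟩
      obtain ⟨y, rfl⟩ := Submodule.Quotient.mk_surjective _ y
      rw [mapQ_apply, Submodule.Quotient.eq] at hy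
      rw [mapQ_apply, Submodule.Quotient.mk_eq_zero]
      have h1 : (y.1 : W) - x.1 ∈ B := hAB hy
      have h2 := B.sub_mem y.2 h1
      rwa [sub_sub_cancel] at h2

theorem qlen_map {W' : Type u} [AddCommGroup W'] [Module O W'] (e : W ≃ₗ[O] W') (A L : Submodule O W) :
    qlen (A.map e.toLinearMap) (L.map e.toLinearMap) = qlen A L := by
  refine (LinearEquiv.length_eq (Submodule.Quotient.equiv _ _ (e.submoduleMap L) ?_)).symm
  ext x
  constructor
  · rintro ⟨y, hy, rfl⟩
    exact ⟨_, hy, rfl⟩
  · rintro ⟨a, ha, hax⟩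
    refine ⟨(e.submoduleMap L).symm x, ?_, (e.submoduleMap L).apply_symm_apply x⟩
    have h1 : ((e.submoduleMap L).symm x : W) = a := e.injective
      ((LinearEquiv.submoduleMap_symm_apply e L x).symm ▸ (e.apply_symm_apply _).trans hax.symm)
    exact (show ((e.submoduleMap L).symm x : W) ∈ A from h1 ▸ ha)

theorem qlen_self (A : Submodule O W) : qlen A A = 0 := by
  rw [qlen, Module.length_eq_zero_iff, Submodule.Quotient.subsingleton_iff]
  exact eq_top_iff.mpr fun x _ => x.2

theorem qlen_eq_zero_iff {A L : Submodule O W} : qlen A L = 0 ↔ L ≤ A := by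
  rw [qlen, Module.length_eq_zero_iff, Submodule.Quotient.subsingleton_iff]
  exact ⟨fun h x hx => (h.ge (Submodule.mem_top (x := ⟨x, hx⟩)) :), fun h => eq_top_iff.mpr fun x _ => h x.2⟩

theorem qlen_eq_one_of_covBy {A L : Submodule O W} (h : A ⋖ L) : qlen A L = 1 := by
  rw [qlen, Module.length_eq_one_iff]
  exact (covBy_iff_quot_is_simple h.le).mp h

end

variable {O : Type u} [CommRing O] [IsDomain O] [IsNoetherianRing O] [IsLocalRing O]
  {K : Type u} [Field K] [Algebra O K] [IsFractionRing O K]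

local notation "B" => integralClosure O K

variable (O K) in
/-- The lattice `Õ^n`. -/
def topLat (n : ℕ) : Submodule O (Fin n → K) :=
  Submodule.pi Set.univ (fun _ : Fin n => Subalgebra.toSubmodule (integralClosure O K))

variable (O K) in
/-- The conductor. -/
def cond : Ideal O := (1 : Submodule O K).colon (Subalgebra.toSubmodule (integralClosure O K))

variable (O K) in
/-- The lattice `C^n`. -/
def condLat (n : ℕ) : Submodule O (Fin n → K) :=
  Submodule.pi Set.univ (fun _ : Fin n => cond O K • (1 : Submodule O K))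

omit [IsDomain O] [IsNoetherianRing O] [IsLocalRing O] [IsFractionRing O K] in
theorem smul_mem_topLat {n : ℕ} (b : B) {x : Fin n → K} (hx : x ∈ topLat O K n) :
    (b : K) • x ∈ topLat O K n :=
  fun i hi => (integralClosure O K).mul_mem b.2 (hx i hi)

omit [IsDomain O] [IsNoetherianRing O] [IsLocalRing O] [IsFractionRing O K] in
theorem mem_cond_smul_one {x : K} :
    x ∈ cond O K • (1 : Submodule O K) ↔ ∃ a ∈ cond O K, algebraMap O K a = x := by
  constructor
  · intro hx
    refine Submodule.smul_induction_on hx (fun a ha y hy => ?_) ?_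
    · obtain ⟨c, rfl⟩ := Submodule.mem_one.mp hy
      exact ⟨a * c, Ideal.mul_mem_right _ _ ha, by rw [map_mul, Algebra.smul_def]⟩
    · rintro _ _ ⟨a, ha, rfl⟩ ⟨b, hb, rfl⟩
      exact ⟨a + b, add_mem ha hb, map_add _ _ _⟩
  · rintro ⟨a, ha, rfl⟩
    rw [Algebra.algebraMap_eq_smul_one]
    exact Submodule.smul_mem_smul ha (Submodule.one_le.mp le_rfl)

omit [IsNoetherianRing O] [IsLocalRing O] in
theorem mul_mem_cond (b : B) {x : K} (hx : x ∈ cond O K • (1 : Submodule O K)) :
    (b : K) * x ∈ cond O K • (1 : Submodule O K) := by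
  obtain ⟨a, ha, rfl⟩ := mem_cond_smul_one.mp hx
  have h1 : a • (b : K) ∈ (1 : Submodule O K) := Submodule.mem_colon.mp ha _ b.2
  obtain ⟨c, hc⟩ := Submodule.mem_one.mp h1
  refine mem_cond_smul_one.mpr ⟨c, Submodule.mem_colon.mpr fun p hp => ?_,
    by rw [hc, Algebra.smul_def, mul_comm]⟩
  have h2 : a • ((b : K) * p) ∈ (1 : Submodule O K) :=
    Submodule.mem_colon.mp ha _ ((integralClosure O K).mul_mem b.2 hp)
  rwa [Algebra.smul_def, hc, Algebra.smul_def, mul_assoc, ← Algebra.smul_def]

variable (O K) in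
/-- The conductor is a principal lattice. -/
theorem exists_cond_gen [Module.Finite O (integralClosure O K)] (hdim : ringKrullDim O = 1)
    (hne : ∃ d : O, d ≠ 0 ∧ d ∈ cond O K) :
    ∃ γ : K, γ ≠ 0 ∧ ∀ x : K, x ∈ cond O K • (1 : Submodule O K) ↔ ∃ b : B, γ * b = x := by
  haveI := TFCurvNormLib.isDedekindDomain_normalization (O := O) (K := K) hdim
  haveI := TFCurvNormLib.finite_maximalSpectrum (O := O) (K := K) hdim
  haveI : IsPrincipalIdealRing (integralClosure O K) :=
    IsPrincipalIdealRing.of_finite_maximals ((MaximalSpectrum.range_asIdeal B).symm ▸ Set.finite_range _)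
  let J : Ideal (integralClosure O K) :=
    { carrier := {b | (b : K) ∈ cond O K • (1 : Submodule O K)}
      add_mem' := fun {a b} ha hb => (cond O K • (1 : Submodule O K)).add_mem ha hb
      zero_mem' := zero_mem (cond O K • (1 : Submodule O K))
      smul_mem' := fun c x hx => mul_mem_cond c hx }
  have hmem : ∀ x : K, x ∈ cond O K • (1 : Submodule O K) → x ∈ integralClosure O K := fun x hx => by
    obtain ⟨a, -, rfl⟩ := mem_cond_smul_one.mp hx
    exact (integralClosure O K).algebraMap_mem a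
  obtain ⟨g, hg⟩ := (IsPrincipalIdealRing.principal J).principal
  have hgJ : g ∈ J := hg.ge (Submodule.mem_span_singleton_self g)
  obtain ⟨d, hd0, hd⟩ := hne
  have hdJ : (⟨algebraMap O K d, (integralClosure O K).algebraMap_mem d⟩ : B) ∈ J :=
    mem_cond_smul_one.mpr ⟨d, hd, rfl⟩
  refine ⟨(g : K), fun h0 => hd0 ?_, fun x => ⟨fun hx => ?_, ?_⟩⟩
  · obtain ⟨c, hc⟩ := Submodule.mem_span_singleton.mp (hg.le hdJ)
    have := congrArg (Subtype.val : B → K) hc
    simp only [smul_eq_mul, MulMemClass.coe_mul, h0, mul_zero] at this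
    exact IsFractionRing.injective O K (this.symm.trans (map_zero _).symm)
  · obtain ⟨c, hc⟩ := Submodule.mem_span_singleton.mp (hg.le (show (⟨x, hmem x hx⟩ : B) ∈ J from hx))
    exact ⟨c, by rw [mul_comm]; exact congrArg Subtype.val hc⟩
  · rintro ⟨b, rfl⟩
    rw [mul_comm]
    exact mul_mem_cond b hgJ

omit [IsNoetherianRing O] [IsLocalRing O] in
theorem condLat_eq_map {n : ℕ} {γ : K} (hγ : γ ≠ 0)
    (h : ∀ x : K, x ∈ cond O K • (1 : Submodule O K) ↔ ∃ b : B, γ * b = x) :
    condLat O K n = (topLat O K n).map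
      ((LinearEquiv.smulOfUnit (Units.mk0 γ hγ) : (Fin n → K) ≃ₗ[K] _).restrictScalars O).toLinearMap := by
  ext x
  constructor
  · intro hx
    choose b hb using fun i => (h (x i)).mp (hx i trivial)
    exact ⟨fun i => b i, fun i _ => (b i).2, funext fun i => hb i⟩
  · rintro ⟨y, hy, rfl⟩ i -
    exact (h _).mpr ⟨⟨y i, hy i trivial⟩, rfl⟩

omit [IsDomain O] [IsNoetherianRing O] [IsLocalRing O] [IsFractionRing O K] in
theorem map_smul_comm {n : ℕ} {γ : K} (hγ : γ ≠ 0) (h : (Fin n → K) ≃ₗ[K] (Fin n → K))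
    (A : Submodule O (Fin n → K)) :
    (A.map ((LinearEquiv.smulOfUnit (Units.mk0 γ hγ) : (Fin n → K) ≃ₗ[K] _).restrictScalars O).toLinearMap).map
        (h.restrictScalars O).toLinearMap =
      (A.map (h.restrictScalars O).toLinearMap).map
        ((LinearEquiv.smulOfUnit (Units.mk0 γ hγ) : (Fin n → K) ≃ₗ[K] _).restrictScalars O).toLinearMap := by
  rw [← Submodule.map_comp, ← Submodule.map_comp]
  congr 1
  exact LinearMap.ext fun x => map_smul h γ x

/-- A `Õ`-stable lattice strictly above one has a cover by such. -/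
theorem exists_step [IsAlgClosed (IsLocalRing.ResidueField O)] [Module.Finite O (integralClosure O K)]
    {n : ℕ} (A T : Submodule O (Fin n → K)) (hA : ∀ (b : B), ∀ x ∈ A, (b : K) • x ∈ A)
    (hT : ∀ (b : B), ∀ x ∈ T, (b : K) • x ∈ T) (hAT : A < T) (hfin : qlen A T ≠ ⊤) :
    ∃ N : Submodule O (Fin n → K), (∀ (b : B), ∀ x ∈ N, (b : K) • x ∈ N) ∧ A ≤ N ∧ N ≤ T ∧
      qlen A N = 1 := by
  let P : Submodule O (Fin n → K) → Prop := fun N => (∀ (b : B), ∀ x ∈ N, (b : K) • x ∈ N) ∧ A < N ∧ N ≤ T
  obtain ⟨N, ⟨hN, hAN, hNT⟩, hmin⟩ :=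
    exists_minimalFor_of_wellFoundedLT P (fun N => qlen A N) ⟨T, hT, hAT, le_rfl⟩
  have hmin' : ∀ N', P N' → N' ≤ N → N' = N := by
    intro N' hN' hle
    refine le_antisymm hle ?_
    have hfinN : qlen A N ≠ ⊤ := fun h => hfin (by rw [qlen_add hAN.le hNT, h, top_add])
    have h1 : qlen A N ≤ qlen A N' := hmin hN' (by show qlen A N' ≤ qlen A N; rw [qlen_add hN'.2.1.le hle]; exact le_self_add)
    rw [qlen_add hN'.2.1.le hle] at h1 hfinN
    have h2 : qlen N' N = 0 := by
      have hne : qlen A N' ≠ ⊤ := fun h => hfinN (by rw [h, top_add])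
      lift qlen A N' to ℕ using hne with a
      lift qlen N' N to ℕ using (fun h => hfinN (by rw [h, add_top])) with b
      norm_cast at h1 ⊢
      omega
    exact qlen_eq_zero_iff.mp h2
  refine ⟨N, hN, hAN.le, hNT, qlen_eq_one_of_covBy ⟨hAN, fun X hAX hXN => ?_⟩⟩
  obtain ⟨x, hxX, hxA⟩ := SetLike.exists_of_lt hAX
  -- the set of multiples of `x` modulo `A`
  let f : B →ₗ[O] (Fin n → K) :=
    { toFun := fun b => (b : K) • x
      map_add' := fun a b => by simp [add_smul]
      map_smul' := fun a b => by simp [smul_assoc] }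
  let gen : Ideal B → Submodule O (Fin n → K) := fun I => A ⊔ (I.restrictScalars O).map f
  have hgen : ∀ I, ∀ (b : B), ∀ y ∈ gen I, (b : K) • y ∈ gen I := by
    intro I b y hy
    obtain ⟨a, ha, _, ⟨c, hc, rfl⟩, rfl⟩ := Submodule.mem_sup.mp hy
    rw [smul_add]
    refine Submodule.add_mem_sup (hA b a ha) ⟨b * c, I.mul_mem_left b hc, ?_⟩
    show ((b * c : B) : K) • x = (b : K) • ((c : K) • x)
    rw [MulMemClass.coe_mul, mul_smul]
  have hxN : x ∈ N := hXN.le hxX
  have hgenle : ∀ I, gen I ≤ N := fun I => sup_le hAN.le (by rintro _ ⟨c, -, rfl⟩; exact hN c x hxN)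
  have htop : gen ⊤ = N := hmin' _ ⟨hgen ⊤, lt_of_le_not_ge le_sup_left fun h => hxA
    (h (Submodule.mem_sup_right ⟨1, trivial, one_smul K x⟩)), (hgenle _).trans hNT⟩ (hgenle _)
  let q : Ideal B :=
    { carrier := {b | (b : K) • x ∈ A}
      add_mem' := fun {a b} ha hb => by simpa [add_smul] using add_mem ha hb
      zero_mem' := by simp
      smul_mem' := fun c b hb => by
        show ((c * b : B) : K) • x ∈ A
        rw [MulMemClass.coe_mul, mul_smul]
        exact hA c _ hb }
  haveI hq : q.IsMaximal := by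
    refine Ideal.isMaximal_iff.mpr ⟨fun h => hxA (by simpa [q] using h), fun J b hqJ hb hbJ => ?_⟩
    have hJ : gen J = N := hmin' _ ⟨hgen J, lt_of_le_not_ge le_sup_left fun h => hb
      (h (Submodule.mem_sup_right ⟨b, hbJ, rfl⟩)), (hgenle _).trans hNT⟩ (hgenle _)
    obtain ⟨a, ha, _, ⟨c, hc, rfl⟩, hac⟩ := Submodule.mem_sup.mp (hJ.ge hxN)
    have h1 : (1 - c) ∈ q := by
      show ((1 - c : B) : K) • x ∈ A
      simp only [AddSubgroupClass.coe_sub, OneMemClass.coe_one, sub_smul, one_smul]
      rw [show x - (c : K) • x = a from sub_eq_iff_eq_add.mpr hac.symm]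
      exact ha
    simpa using J.add_mem (hqJ h1) hc
  refine hXN.not_ge ?_
  rw [← htop]
  refine sup_le hAX.le ?_
  rintro _ ⟨b, -, rfl⟩
  obtain ⟨o, ho⟩ := TFCurvNormLib.algebraMap_quotient_surjective q (Ideal.Quotient.mk q b)
  rw [IsScalarTower.algebraMap_apply O B (B ⧸ q), Ideal.Quotient.algebraMap_eq, Ideal.Quotient.eq] at ho
  have h1 : ((algebraMap O B o - b : B) : K) • x ∈ X := hAX.le ho
  have h2 : o • x ∈ X := X.smul_mem o hxX
  simp only [AddSubgroupClass.coe_sub, sub_smul] at h1
  rw [show ((algebraMap O B o : B) : K) = algebraMap O K o from rfl, algebraMap_smul] at h1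
  simpa [f] using X.sub_mem h2 h1

/-- A `Õ`-stable full lattice is free. -/
theorem exists_linearEquiv_map_eq [Module.Finite O (integralClosure O K)] (hdim : ringKrullDim O = 1)
    {n : ℕ} (g : (Fin n → K) ≃ₗ[K] (Fin n → K)) (N : Submodule O (Fin n → K))
    (hN : ∀ (b : B), ∀ x ∈ N, (b : K) • x ∈ N)
    (hgN : (topLat O K n).map (g.restrictScalars O).toLinearMap ≤ N) (hNle : N ≤ topLat O K n) :
    ∃ g' : (Fin n → K) ≃ₗ[K] (Fin n → K), (topLat O K n).map (g'.restrictScalars O).toLinearMap = N := by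
  classical
  haveI := TFCurvNormLib.isDedekindDomain_normalization (O := O) (K := K) hdim
  haveI := TFCurvNormLib.finite_maximalSpectrum (O := O) (K := K) hdim
  haveI := TFCurvNormLib.isFractionRing_normalization (O := O) (K := K)
  haveI : IsPrincipalIdealRing (integralClosure O K) :=
    IsPrincipalIdealRing.of_finite_maximals ((MaximalSpectrum.range_asIdeal B).symm ▸ Set.finite_range _)
  let NB : Submodule B (Fin n → K) :=
    { carrier := N
      add_mem' := fun ha hb => N.add_mem ha hb
      zero_mem' := N.zero_mem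
      smul_mem' := fun b x hx => hN b x hx }
  let φ : NB →ₗ[B] (Fin n → B) :=
    { toFun := fun x i => ⟨x.1 i, hNle x.2 i trivial⟩
      map_add' := fun _ _ => rfl
      map_smul' := fun _ _ => rfl }
  have hφ : Function.Injective φ := fun x y h =>
    Subtype.ext (funext fun i => congrArg Subtype.val (congrFun h i))
  haveI : Module.Finite B NB := Module.Finite.of_injective φ hφ
  haveI : Module.IsTorsionFree B NB := inferInstance
  obtain ⟨m, bN⟩ := Module.basisOfFiniteTypeTorsionFree' (R := B) (M := NB)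
  let v : Fin m → (Fin n → K) := fun i => (bN i : Fin n → K)
  have hli : LinearIndependent K v :=
    (LinearIndependent.iff_fractionRing B K).mp
      (bN.linearIndependent.map' NB.subtype (Submodule.ker_subtype _))
  have hrep : ∀ x ∈ N, ∃ c : Fin m → B, ∑ i, (c i : K) • v i = x := by
    intro x hx
    refine ⟨fun i => bN.repr ⟨x, hx⟩ i, ?_⟩
    have := congrArg Subtype.val (bN.sum_repr ⟨x, hx⟩)
    simp only [Submodule.coe_sum, Submodule.coe_smul] at this
    exact this
  have hsp : Submodule.span K (Set.range v) = ⊤ := by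
    rw [eq_top_iff, ← LinearEquiv.range g, LinearMap.range_eq_map,
      ← (Pi.basisFun K (Fin n)).span_eq, Submodule.map_span, Submodule.span_le]
    rintro _ ⟨_, ⟨i, rfl⟩, rfl⟩
    have hmem : g (Pi.basisFun K (Fin n) i) ∈ N := hgN ⟨_, fun j _ => by
      rw [Pi.basisFun_apply]
      rcases eq_or_ne j i with rfl | hne
      · rw [Pi.single_eq_same]
        exact (integralClosure O K).one_mem
      · rw [Pi.single_eq_of_ne hne]
        exact zero_mem _, rfl⟩
    obtain ⟨c, hc⟩ := hrep _ hmem
    show g _ ∈ Submodule.span K (Set.range v)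
    rw [← hc]
    exact Submodule.sum_mem _ fun j _ => Submodule.smul_mem _ _ (Submodule.subset_span ⟨j, rfl⟩)
  let bv : Module.Basis (Fin m) K (Fin n → K) := Module.Basis.mk hli hsp.ge
  have hmn : m = n := by simpa using (Module.finrank_eq_card_basis bv).symm
  subst hmn
  refine ⟨bv.equivFun.symm, le_antisymm ?_ ?_⟩
  · rintro _ ⟨c, hc, rfl⟩
    show bv.equivFun.symm c ∈ N
    rw [Module.Basis.equivFun_symm_apply]
    refine Submodule.sum_mem _ fun i _ => ?_
    rw [Module.Basis.mk_apply]
    exact hN ⟨c i, hc i trivial⟩ _ (bN i).2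
  · intro x hx
    obtain ⟨c, hc⟩ := hrep x hx
    refine ⟨fun i => (c i : K), fun i _ => (c i).2, ?_⟩
    show bv.equivFun.symm _ = x
    rw [Module.Basis.equivFun_symm_apply]
    simpa [bv] using hc

set_option maxHeartbeats 400000 in
/-- Interpolation. -/
theorem exists_qlen_eq [IsAlgClosed (IsLocalRing.ResidueField O)] [Module.Finite O (integralClosure O K)]
    (hdim : ringKrullDim O = 1) (n : ℕ) (hfin : qlen (condLat O K n) (topLat O K n) ≠ ⊤)
    (hne : ∃ d : O, d ≠ 0 ∧ d ∈ cond O K) (T : ℕ∞) :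
    ∀ (g : (Fin n → K) ≃ₗ[K] (Fin n → K)) (L : Submodule O (Fin n → K)),
      (topLat O K n).map (g.restrictScalars O).toLinearMap ≤ topLat O K n →
      condLat O K n ≤ L → L ≤ topLat O K n →
      condLat O K n ≤ L.map (g.restrictScalars O).toLinearMap →
      qlen (condLat O K n) (L.map (g.restrictScalars O).toLinearMap) ≤ T →
      T ≤ qlen (condLat O K n) L →
      ∃ L', condLat O K n ≤ L' ∧ L' ≤ topLat O K n ∧ Nonempty (L ≃ₗ[O] L') ∧
        qlen (condLat O K n) L' = T := by
  obtain ⟨γ, hγ, hcond⟩ := exists_cond_gen O K hdim hne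
  set C := condLat O K n
  set Tp := topLat O K n with hTp
  have hCeq := condLat_eq_map (n := n) hγ hcond
  suffices ∀ (m : ℕ) (g : (Fin n → K) ≃ₗ[K] (Fin n → K)) (L : Submodule O (Fin n → K)),
      qlen (Tp.map (g.restrictScalars O).toLinearMap) Tp = m →
      Tp.map (g.restrictScalars O).toLinearMap ≤ Tp → C ≤ L → L ≤ Tp →
      C ≤ L.map (g.restrictScalars O).toLinearMap →
      qlen C (L.map (g.restrictScalars O).toLinearMap) ≤ T → T ≤ qlen C L →
      ∃ L', C ≤ L' ∧ L' ≤ Tp ∧ Nonempty (L ≃ₗ[O] L') ∧ qlen C L' = T by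
    intro g L h1 h2 h3 h4 h5 h6
    obtain ⟨m, hm⟩ := ENat.ne_top_iff_exists.mp (show qlen (Tp.map (g.restrictScalars O).toLinearMap) Tp ≠ ⊤ by
      intro h
      exact hfin (by rw [qlen_add (h4.trans (Submodule.map_mono h3)) h1, h, add_top]))
    exact this m g L hm.symm h1 h2 h3 h4 h5 h6
  have hgC : ∀ g : (Fin n → K) ≃ₗ[K] (Fin n → K), C.map (g.restrictScalars O).toLinearMap =
      (Tp.map (g.restrictScalars O).toLinearMap).map
        ((LinearEquiv.smulOfUnit (Units.mk0 γ hγ) : (Fin n → K) ≃ₗ[K] _).restrictScalars O).toLinearMap := by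
    intro g
    rw [show C = _ from hCeq, map_smul_comm]
  intro m
  induction m with
  | zero =>
    intro g L hm h1 h2 h3 h4 h5 h6
    have hgT : Tp.map (g.restrictScalars O).toLinearMap = Tp := le_antisymm h1 (qlen_eq_zero_iff.mp hm)
    have hgCC : C.map (g.restrictScalars O).toLinearMap = C := by rw [hgC g, hgT]; exact hCeq.symm
    have heq : qlen C (L.map (g.restrictScalars O).toLinearMap) = qlen C L := by
      conv_lhs => rw [← hgCC]
      exact qlen_map _ _ _
    exact ⟨L, h2, h3, ⟨LinearEquiv.refl _ _⟩, le_antisymm (heq ▸ h5) h6⟩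
  | succ m ih =>
    intro g L hm h1 h2 h3 h4 h5 h6
    rcases eq_or_lt_of_le h6 with h6 | h6
    · exact ⟨L, h2, h3, ⟨LinearEquiv.refl _ _⟩, h6.symm⟩
    have hstab : ∀ e : (Fin n → K) ≃ₗ[K] (Fin n → K), ∀ (b : integralClosure O K),
        ∀ x ∈ Tp.map (e.restrictScalars O).toLinearMap, (b : K) • x ∈ Tp.map (e.restrictScalars O).toLinearMap := by
      rintro e b _ ⟨y, hy, rfl⟩
      exact ⟨_, smul_mem_topLat b hy, map_smul e _ _⟩
    have hlt : Tp.map (g.restrictScalars O).toLinearMap < Tp := lt_of_le_not_ge h1 fun h => by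
      rw [qlen_eq_zero_iff.mpr h] at hm
      exact absurd hm.symm (by exact_mod_cast (Nat.succ_ne_zero m))
    obtain ⟨N, hN, hgN, hNT, hN1⟩ := exists_step _ Tp (hstab g) (fun b x hx => smul_mem_topLat b hx) hlt
      (hm ▸ ENat.coe_ne_top _)
    obtain ⟨g', hg'⟩ := exists_linearEquiv_map_eq hdim g N hN hgN hNT
    rw [← hTp] at hg'
    let h : (Fin n → K) ≃ₗ[K] (Fin n → K) := g.trans g'.symm
    have hcomp : ∀ A : Submodule O (Fin n → K), (A.map (h.restrictScalars O).toLinearMap).map
        (g'.restrictScalars O).toLinearMap = A.map (g.restrictScalars O).toLinearMap := by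
      intro A
      rw [← Submodule.map_comp]
      congr 1
      exact LinearMap.ext fun x => g'.apply_symm_apply (g x)
    have hinj := Submodule.map_le_map_iff_of_injective (f := (g'.restrictScalars O).toLinearMap) g'.injective
    have hhT : Tp.map (h.restrictScalars O).toLinearMap ≤ Tp :=
      (hinj _ _).mp ((hcomp Tp).le.trans (hgN.trans hg'.ge))
    have hg'T : Tp.map (g'.restrictScalars O).toLinearMap ≤ Tp := hg'.le.trans hNT
    have hCg' : C.map (g'.restrictScalars O).toLinearMap ≤ C := by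
      rw [hgC g', show C = _ from hCeq]
      exact Submodule.map_mono hg'T
    have hCh : C ≤ L.map (h.restrictScalars O).toLinearMap :=
      (hinj _ _).mp (hCg'.trans (h4.trans (hcomp L).ge))
    have hhC : qlen (C.map (h.restrictScalars O).toLinearMap) C = 1 := by
      rw [hgC h]
      conv_lhs => arg 2; rw [show C = _ from hCeq]
      rw [qlen_map, ← qlen_map (g'.restrictScalars O), hcomp, hg', hN1]
    have hhC_le : C.map (h.restrictScalars O).toLinearMap ≤ C := by
      rw [hgC h, show C = _ from hCeq]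
      exact Submodule.map_mono hhT
    have hstep : qlen C L = 1 + qlen C (L.map (h.restrictScalars O).toLinearMap) := by
      rw [← hhC, ← qlen_add hhC_le hCh, qlen_map]
    obtain ⟨L', hL1, hL2, ⟨e⟩, hL3⟩ := ih g' (L.map (h.restrictScalars O).toLinearMap) (by
        rw [hg']
        rw [qlen_add hgN hNT, hN1] at hm
        lift qlen N Tp to ℕ using (fun hh => by rw [hh] at hm; exact absurd hm (by simp only [Nat.cast_add, Nat.cast_one, add_top]; exact (ENat.coe_ne_top (m + 1)).symm)) with a
        norm_cast at hm ⊢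
        omega)
      hg'T hCh ((Submodule.map_mono h3).trans hhT) (h4.trans (hcomp L).ge) (by rwa [hcomp L]) (by
        rw [hstep] at h6
        generalize qlen C (L.map (h.restrictScalars O).toLinearMap) = t at h6 ⊢
        cases t using ENat.recTopCoe with
        | top => exact le_top
        | coe t =>
          lift T to ℕ using (fun hh => by rw [hh] at h6; exact not_top_lt h6)
          norm_cast at h6 ⊢
          omega)
    exact ⟨L', hL1, hL2, ⟨((h.restrictScalars O).submoduleMap L).trans e⟩, hL3⟩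

end Groth.Agent.TFCurvInterpLib
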